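import Groth.Agent.JacLib.Point
import Groth.Agent.EtAlgEasy.PrinPartPush
import Groth.Agent.EtAlgEasy.PrinPartSym
import Groth.Agent.EtAlgEasy.PrinPartAff
import Groth.Agent.LefAmpleLib.IdealPow
import Groth.Agent.TwistShriek.SurfCurve
import Groth.Agent.IntLib.Push
import Groth.Agent.CurveLib.DegTensor

/-!
# Euler characteristics of sheaves of principal parts
-/

set_option autoImplicit false
set_option backward.isDefEq.respectTransparency false
set_option backward.isDefEq.respectTransparency.types false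
set_option linter.style.haveILetI false
set_option maxHeartbeats 1600000

universe u

open CategoryTheory CategoryTheory.Limits AlgebraicGeometry TopologicalSpace
open Groth.Agent.PullbackMod Groth.Agent.DCohLib

noncomputable section

namespace Groth.Agent.PrinPartDegLib

/-- A smooth irreducible curve over a field is smooth of relative dimension one. -/
theorem smoothOfRelativeDimension_one {k : Type u} [Field k] {X : Scheme.{u}} (f : X ⟶ Spec (CommRingCat.of k))
    [Smooth f] [IrreducibleSpace X] (hdim : topologicalKrullDim X = 1) : SmoothOfRelativeDimension 1 f := by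
  haveI : JacobsonSpace X := LocallyOfFiniteType.jacobsonSpace f
  refine ⟨fun x => ?_⟩
  obtain ⟨U, hU, V, hV, hxV, e, hs⟩ := Smooth.exists_isStandardSmooth f x
  obtain ⟨n, hn⟩ : ∃ n, RingHom.IsStandardSmoothOfRelativeDimension n (f.appLE U V e).hom := by
    algebraize [(f.appLE U V e).hom]
    obtain ⟨ι, σ, i1, i2, ⟨P⟩⟩ := Algebra.IsStandardSmooth.out (R := Γ(Spec (CommRingCat.of k), U)) (S := Γ(X, V))
    exact ⟨P.dimension, P.isStandardSmoothOfRelativeDimension rfl⟩
  let g := V.ι ≫ f
  haveI : SmoothOfRelativeDimension n g := by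
    haveI : IsAffine V.toScheme := hV
    refine ⟨fun v => ⟨U, hU, ⊤, isAffineOpen_top _, trivial, fun w _ => e w.2, ?_⟩⟩
    have : g.appLE U ⊤ (fun w _ => e w.2) = f.appLE U V e ≫ V.topIso.inv := by
      simp only [g, Scheme.Hom.appLE, Scheme.Hom.comp_app, Scheme.Opens.ι_app, Category.assoc,
        Scheme.Opens.topIso_inv]
      erw [← X.presheaf.map_comp, ← X.presheaf.map_comp]
      congr 1
    rw [this]
    exact RingHom.isStandardSmoothOfRelativeDimension_respectsIso.1 _ V.topIso.symm.commRingCatIsoToRingEquiv hn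
  let y : (V : Scheme.{u}) := ⟨x, hxV⟩
  have key : ∀ W : Opens ↥(V : Scheme.{u}), y ∈ W → topologicalKrullDim (W : Set ↥(V : Scheme.{u})) = 1 := by
    intro W hyW
    let O : Opens X := V.ι ''ᵁ W
    have e₁ : ↥(W : Set ↥(V : Scheme.{u})) ≃ₜ ↥(O : Set X) := Scheme.Hom.homeomorph (V.ι.isoImage W).hom
    rw [IsHomeomorph.topologicalKrullDim_eq e₁ e₁.isHomeomorph]
    refine le_antisymm ?_ (JacLib.one_le_dim_of_open hdim O ⟨V.ι y, y, hyW, rfl⟩)
    exact (Topology.IsEmbedding.subtypeVal.isInducing.topologicalKrullDim_le).trans hdim.le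
  have hn1 : FlatMor.localDim ↥(V : Scheme.{u}) y = (1 : WithBot ℕ∞) :=
    le_antisymm ((iInf_le _ ⟨⊤, trivial⟩).trans (key ⊤ trivial).le) (le_iInf fun W => (key W.1 W.2).ge)
  rw [S2768.localDim_eq n g y] at hn1
  have : n = 1 := by exact_mod_cast hn1
  subst this
  exact ⟨U, hU, V, hV, hxV, e, hn⟩

/-- Mapping an ideal sheaf along an isomorphism. -/
theorem map_of_isIso {X Y : Scheme.{u}} (φ : X ⟶ Y) [IsIso φ] (K : X.IdealSheafData) : K.map φ = K.comap (inv φ) := by
  refine le_antisymm ?_ (Scheme.IdealSheafData.le_map_iff_comap_le.2 ?_)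
  · have h := Scheme.IdealSheafData.comap_mono (inv φ) (Scheme.IdealSheafData.comap_map_le (I := K) (f := φ))
    dsimp only at h
    rwa [← Scheme.IdealSheafData.comap_comp, IsIso.inv_hom_id, Scheme.IdealSheafData.comap_id] at h
  · rw [← Scheme.IdealSheafData.comap_comp, IsIso.hom_inv_id, Scheme.IdealSheafData.comap_id]

/-- The kernel of the neighbourhood of the diagonal. -/
theorem ker_nbhdι {X S : Scheme.{u}} (f : X ⟶ S) [IsSeparated f] (n : ℕ) :
    (PrinPart.nbhdι f n).ker = (pullback.diagonal f).ker ^ (n + 1) := by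
  haveI := EtAlgEasy.PrinPartAff.isIso_ι_coborderRange (pullback.diagonal f)
  let i := PrinPart.diagCl f
  have h1 : (PrinPart.nbhdι f n).ker = (i.ker ^ (n + 1)).map (pullback.diagonal f).coborderRange.ι := by
    rw [PrinPart.nbhdι, Scheme.Hom.ker_comp, PrinPart.infNbhdι, Scheme.IdealSheafData.ker_subschemeι]
  have h2 : (pullback.diagonal f).ker = i.ker.map (pullback.diagonal f).coborderRange.ι := by
    rw [← Scheme.Hom.ker_comp]
    exact congrArg _ (Scheme.Hom.liftCoborder_ι _).symm
  rw [h1, h2, map_of_isIso, map_of_isIso, EtAlgEasy.PrinPartSym.comap_pow]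

variable {k : Type u} [Field k]

/-- `χ(O_Y/J ⊗ G) = χ(G) - χ(J ⊗ G)` for invertible `G`. -/
theorem euler_quotMod {P : Scheme.{u}} [P.Over (Spec (CommRingCat.of k))] [IsProper (P ↘ Spec (CommRingCat.of k))]
    (J : P.IdealSheafData) (hJ : PicF.IsInvertible (ClSub.idealMod J)) {G : P.Modules} (hG : PicF.IsInvertible G) :
    Curv2.euler k P (CohB1.tensorMod (ClSub.quotMod J) G) =
      Curv2.euler k P G - Curv2.euler k P (CohB1.tensorMod (ClSub.idealMod J) G) := by
  haveI := EulerIneqLib.isNoetherian_proper (X := P) k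
  haveI : Epi (ClSub.toSubscheme J) := Groth.Agent.SerreAff.epi_unitToPush J.subschemeι
  have hS : (ShortComplex.mk (kernel.ι (ClSub.toSubscheme J)) (ClSub.toSubscheme J) (kernel.condition _)).ShortExact :=
    ShortComplex.ShortExact.mk' (ShortComplex.exact_of_f_is_kernel _ (kernelIsKernel _)) inferInstance inferInstance
  have hT := CurveLib.shortExact_tensR hS
    (CurveLib.freeAt_of_isFinLocFreeOfRank (CurveLib.isFinLocFreeOfRank_one hG))
  have hGc := CurveLib.isCoh_of_isInvertible hG
  have h := CurveLib.euler_shortExact (K := k) hT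
    (CurveLib.isCoh_tmod (CurveLib.isCoh_of_isInvertible hJ) hGc)
    (CurveLib.isCoh_tmod (DevLib.isCoh_structureModule P) hGc)
    (CurveLib.isCoh_tmod (IntLib.isCoh_quotMod J) hGc)
  have e := CurveLib.euler_iso (K := k) (AmpleLib.unitL G)
  change Curv2.euler k P (CohB1.tensorMod (Coh.structureModule P) G) =
    Curv2.euler k P (CohB1.tensorMod (ClSub.idealMod J) G) + Curv2.euler k P (CohB1.tensorMod (ClSub.quotMod J) G) at h
  linarith

variable {X P : Scheme.{u}} [X.Over (Spec (CommRingCat.of k))] [IsProper (X ↘ Spec (CommRingCat.of k))]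
  [P.Over (Spec (CommRingCat.of k))] [IsProper (P ↘ Spec (CommRingCat.of k))]

/-- `χ(O_Z ⊗ G) = χ(i^* G)`. -/
theorem euler_quotMod_ker {i : X ⟶ P} [IsClosedImmersion i] (hi : i ≫ (P ↘ Spec (CommRingCat.of k)) = X ↘ Spec (CommRingCat.of k))
    {G : P.Modules} (hG : PicF.IsInvertible G) :
    Curv2.euler k P (CohB1.tensorMod (ClSub.quotMod i.ker) G) = Curv2.euler k X ((Scheme.Modules.pullback i).obj G) := by
  haveI := EulerIneqLib.isNoetherian_proper (X := P) k
  obtain ⟨q⟩ := TwistShriek.nonempty_quotMod_ker_iso i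
  haveI := EulerIneqLib.isNoetherian_proper (X := X) k
  rw [CurveLib.euler_iso (K := k) (AmpleLib.tIso q (Iso.refl G)),
    IntLib.euler_push_tensor k hi (DevLib.isCoh_structureModule X) hG,
    CurveLib.euler_iso (K := k) (AmpleLib.unitL ((Scheme.Modules.pullback i).obj G))]

/-- The Euler characteristic on a thickening of an effective Cartier divisor. -/
theorem euler_thick {i : X ⟶ P} [IsClosedImmersion i] (hi : i ≫ (P ↘ Spec (CommRingCat.of k)) = X ↘ Spec (CommRingCat.of k))
    (hI : PicF.IsInvertible (ClSub.idealMod i.ker)) {M : P.Modules} (hM : PicF.IsInvertible M) (n : ℕ)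
    {Z : Scheme.{u}} [Z.Over (Spec (CommRingCat.of k))] [IsProper (Z ↘ Spec (CommRingCat.of k))]
    {h : Z ⟶ P} [IsClosedImmersion h] (hh : h ≫ (P ↘ Spec (CommRingCat.of k)) = Z ↘ Spec (CommRingCat.of k))
    (hker : h.ker = i.ker ^ (n + 1)) :
    Curv2.euler k Z ((Scheme.Modules.pullback h).obj M) = ∑ j ∈ Finset.range (n + 1),
      Curv2.euler k X (CohB1.tensorMod (CohB1.tensorPow ((Scheme.Modules.pullback i).obj (ClSub.idealMod i.ker)) j)
        ((Scheme.Modules.pullback i).obj M)) := by
  haveI := EulerIneqLib.isNoetherian_proper (X := P) k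
  let I := ClSub.idealMod i.ker
  let G : ℕ → P.Modules := fun j => CohB1.tensorMod (CohB1.tensorPow I j) M
  have hG : ∀ j, PicF.IsInvertible (G j) := fun j => AmpleLib.isInvertible_tensor (AmpleLib.isInvertible_tensorPow hI j) hM
  have hpow := LefAmpleLib.idealMod_pow_succ_aux ((S8914.result _).1 hI) n
  have hinv := (S8914.result _).2 hpow.1
  obtain ⟨e⟩ : Nonempty (ClSub.idealMod (i.ker ^ (n + 1)) ≅ CohB1.tensorPow I (n + 1)) := by
    rw [← IntLib.mk_eq_mk, IntLib.mk_tensorPow, hpow.2]
  have hstep : ∀ j, Curv2.euler k P (G j) - Curv2.euler k P (G (j + 1)) =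
      Curv2.euler k X (CohB1.tensorMod (CohB1.tensorPow ((Scheme.Modules.pullback i).obj I) j)
        ((Scheme.Modules.pullback i).obj M)) := fun j => by
    have e1 : G (j + 1) ≅ CohB1.tensorMod I (G j) :=
      AmpleLib.tIso (AmpleLib.comm (CohB1.tensorPow I j) I) (Iso.refl M) ≪≫ AmpleLib.assoc _ _ _
    rw [CurveLib.euler_iso (K := k) e1, ← euler_quotMod i.ker hI (hG j), euler_quotMod_ker hi (hG j),
      CurveLib.euler_iso (K := k) (AmpleLib.pullTensor i _ M ≪≫ AmpleLib.tIso (AmpleLib.pullPow i I j) (Iso.refl _))]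
  rw [← Finset.sum_congr rfl (fun j _ => hstep j), Finset.sum_range_sub',
    ← euler_quotMod_ker (i := h) hh hM, hker, euler_quotMod _ hinv hM,
    CurveLib.euler_iso (K := k) (AmpleLib.tIso e (Iso.refl M))]
  exact congrArg₂ (· - ·) (CurveLib.euler_iso (K := k) (AmpleLib.unitL M)).symm rfl

end Groth.Agent.PrinPartDegLib
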